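import Cfsg.Agent.Lib.Helper35.ONFast.Data

set_option Elab.async false

namespace Cfsg.Agent.Lib.Helper35.ONFast

open Cfsg.Agent.Lib.Helper35

theorem e0c0 : allBelow (fun k => fe0 (Nat.add 0 k)) 3683 = true := by decide +kernel
theorem e0c1 : allBelow (fun k => fe0 (Nat.add 3683 k)) 3683 = true := by decide +kernel
theorem e0c2 : allBelow (fun k => fe0 (Nat.add 7366 k)) 3683 = true := by decide +kernel
theorem e0c3 : allBelow (fun k => fe0 (Nat.add 11049 k)) 3683 = true := by decide +kernel
theorem e0c4 : allBelow (fun k => fe0 (Nat.add 14732 k)) 3683 = true := by decide +kernel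
theorem e0c5 : allBelow (fun k => fe0 (Nat.add 18415 k)) 3683 = true := by decide +kernel
theorem e0c6 : allBelow (fun k => fe0 (Nat.add 22098 k)) 3683 = true := by decide +kernel
theorem e0c7 : allBelow (fun k => fe0 (Nat.add 25781 k)) 3683 = true := by decide +kernel
theorem e0c8 : allBelow (fun k => fe0 (Nat.add 29464 k)) 3683 = true := by decide +kernel
theorem e0c9 : allBelow (fun k => fe0 (Nat.add 33147 k)) 3683 = true := by decide +kernel
theorem e0c10 : allBelow (fun k => fe0 (Nat.add 36830 k)) 3683 = true := by decide +kernel
theorem e0c11 : allBelow (fun k => fe0 (Nat.add 40513 k)) 3683 = true := by decide +kernel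
theorem e0c12 : allBelow (fun k => fe0 (Nat.add 44196 k)) 3683 = true := by decide +kernel
theorem e0c13 : allBelow (fun k => fe0 (Nat.add 47879 k)) 3683 = true := by decide +kernel
theorem e0c14 : allBelow (fun k => fe0 (Nat.add 51562 k)) 3683 = true := by decide +kernel
theorem e0c15 : allBelow (fun k => fe0 (Nat.add 55245 k)) 3683 = true := by decide +kernel
theorem e0c16 : allBelow (fun k => fe0 (Nat.add 58928 k)) 3683 = true := by decide +kernel
theorem e0c17 : allBelow (fun k => fe0 (Nat.add 62611 k)) 3683 = true := by decide +kernel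
theorem e0c18 : allBelow (fun k => fe0 (Nat.add 66294 k)) 3683 = true := by decide +kernel
theorem e0c19 : allBelow (fun k => fe0 (Nat.add 69977 k)) 3683 = true := by decide +kernel
theorem e0c20 : allBelow (fun k => fe0 (Nat.add 73660 k)) 3683 = true := by decide +kernel
theorem e0c21 : allBelow (fun k => fe0 (Nat.add 77343 k)) 3683 = true := by decide +kernel
theorem e0c22 : allBelow (fun k => fe0 (Nat.add 81026 k)) 3683 = true := by decide +kernel
theorem e0c23 : allBelow (fun k => fe0 (Nat.add 84709 k)) 3683 = true := by decide +kernel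
theorem e0c24 : allBelow (fun k => fe0 (Nat.add 88392 k)) 3683 = true := by decide +kernel
theorem e0c25 : allBelow (fun k => fe0 (Nat.add 92075 k)) 3683 = true := by decide +kernel
theorem e0c26 : allBelow (fun k => fe0 (Nat.add 95758 k)) 3683 = true := by decide +kernel
theorem e0c27 : allBelow (fun k => fe0 (Nat.add 99441 k)) 3683 = true := by decide +kernel
theorem e0c28 : allBelow (fun k => fe0 (Nat.add 103124 k)) 3683 = true := by decide +kernel
theorem e0c29 : allBelow (fun k => fe0 (Nat.add 106807 k)) 3683 = true := by decide +kernel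
theorem e0c30 : allBelow (fun k => fe0 (Nat.add 110490 k)) 3683 = true := by decide +kernel
theorem e0c31 : allBelow (fun k => fe0 (Nat.add 114173 k)) 3683 = true := by decide +kernel
theorem e0c32 : allBelow (fun k => fe0 (Nat.add 117856 k)) 3683 = true := by decide +kernel
theorem e0c33 : allBelow (fun k => fe0 (Nat.add 121539 k)) 1221 = true := by decide +kernel
theorem e1c0 : allBelow (fun k => fe1 (Nat.add 0 k)) 3683 = true := by decide +kernel
theorem e1c1 : allBelow (fun k => fe1 (Nat.add 3683 k)) 3683 = true := by decide +kernel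
theorem e1c2 : allBelow (fun k => fe1 (Nat.add 7366 k)) 3683 = true := by decide +kernel
theorem e1c3 : allBelow (fun k => fe1 (Nat.add 11049 k)) 3683 = true := by decide +kernel
theorem e1c4 : allBelow (fun k => fe1 (Nat.add 14732 k)) 3683 = true := by decide +kernel
theorem e1c5 : allBelow (fun k => fe1 (Nat.add 18415 k)) 3683 = true := by decide +kernel
theorem e1c6 : allBelow (fun k => fe1 (Nat.add 22098 k)) 3683 = true := by decide +kernel
theorem e1c7 : allBelow (fun k => fe1 (Nat.add 25781 k)) 3683 = true := by decide +kernel
theorem e1c8 : allBelow (fun k => fe1 (Nat.add 29464 k)) 3683 = true := by decide +kernel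
theorem e1c9 : allBelow (fun k => fe1 (Nat.add 33147 k)) 3683 = true := by decide +kernel
theorem e1c10 : allBelow (fun k => fe1 (Nat.add 36830 k)) 3683 = true := by decide +kernel
theorem e1c11 : allBelow (fun k => fe1 (Nat.add 40513 k)) 3683 = true := by decide +kernel
theorem e1c12 : allBelow (fun k => fe1 (Nat.add 44196 k)) 3683 = true := by decide +kernel
theorem e1c13 : allBelow (fun k => fe1 (Nat.add 47879 k)) 3683 = true := by decide +kernel
theorem e1c14 : allBelow (fun k => fe1 (Nat.add 51562 k)) 3683 = true := by decide +kernel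
theorem e1c15 : allBelow (fun k => fe1 (Nat.add 55245 k)) 3683 = true := by decide +kernel
theorem e1c16 : allBelow (fun k => fe1 (Nat.add 58928 k)) 3683 = true := by decide +kernel
theorem e1c17 : allBelow (fun k => fe1 (Nat.add 62611 k)) 3683 = true := by decide +kernel
theorem e1c18 : allBelow (fun k => fe1 (Nat.add 66294 k)) 3683 = true := by decide +kernel
theorem e1c19 : allBelow (fun k => fe1 (Nat.add 69977 k)) 3683 = true := by decide +kernel
theorem e1c20 : allBelow (fun k => fe1 (Nat.add 73660 k)) 3683 = true := by decide +kernel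
theorem e1c21 : allBelow (fun k => fe1 (Nat.add 77343 k)) 3683 = true := by decide +kernel
theorem e1c22 : allBelow (fun k => fe1 (Nat.add 81026 k)) 3683 = true := by decide +kernel
theorem e1c23 : allBelow (fun k => fe1 (Nat.add 84709 k)) 3683 = true := by decide +kernel
theorem e1c24 : allBelow (fun k => fe1 (Nat.add 88392 k)) 3683 = true := by decide +kernel
theorem e1c25 : allBelow (fun k => fe1 (Nat.add 92075 k)) 3683 = true := by decide +kernel
theorem e1c26 : allBelow (fun k => fe1 (Nat.add 95758 k)) 3683 = true := by decide +kernel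

end Cfsg.Agent.Lib.Helper35.ONFast
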