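import Cfsg.Agent.Lib.Helper35.ONFast.Data

set_option Elab.async false

namespace Cfsg.Agent.Lib.Helper35.ONFast

open Cfsg.Agent.Lib.Helper35

theorem e3c20 : allBelow (fun k => fe3 (Nat.add 73660 k)) 3683 = true := by decide +kernel
theorem e3c21 : allBelow (fun k => fe3 (Nat.add 77343 k)) 3683 = true := by decide +kernel
theorem e3c22 : allBelow (fun k => fe3 (Nat.add 81026 k)) 3683 = true := by decide +kernel
theorem e3c23 : allBelow (fun k => fe3 (Nat.add 84709 k)) 3683 = true := by decide +kernel
theorem e3c24 : allBelow (fun k => fe3 (Nat.add 88392 k)) 3683 = true := by decide +kernel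
theorem e3c25 : allBelow (fun k => fe3 (Nat.add 92075 k)) 3683 = true := by decide +kernel
theorem e3c26 : allBelow (fun k => fe3 (Nat.add 95758 k)) 3683 = true := by decide +kernel
theorem e3c27 : allBelow (fun k => fe3 (Nat.add 99441 k)) 3683 = true := by decide +kernel
theorem e3c28 : allBelow (fun k => fe3 (Nat.add 103124 k)) 3683 = true := by decide +kernel
theorem e3c29 : allBelow (fun k => fe3 (Nat.add 106807 k)) 3683 = true := by decide +kernel
theorem e3c30 : allBelow (fun k => fe3 (Nat.add 110490 k)) 3683 = true := by decide +kernel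
theorem e3c31 : allBelow (fun k => fe3 (Nat.add 114173 k)) 3683 = true := by decide +kernel
theorem e3c32 : allBelow (fun k => fe3 (Nat.add 117856 k)) 3683 = true := by decide +kernel
theorem e3c33 : allBelow (fun k => fe3 (Nat.add 121539 k)) 1221 = true := by decide +kernel
theorem e4c0 : allBelow (fun k => fe4 (Nat.add 0 k)) 3683 = true := by decide +kernel
theorem e4c1 : allBelow (fun k => fe4 (Nat.add 3683 k)) 3683 = true := by decide +kernel
theorem e4c2 : allBelow (fun k => fe4 (Nat.add 7366 k)) 3683 = true := by decide +kernel
theorem e4c3 : allBelow (fun k => fe4 (Nat.add 11049 k)) 3683 = true := by decide +kernel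
theorem e4c4 : allBelow (fun k => fe4 (Nat.add 14732 k)) 3683 = true := by decide +kernel
theorem e4c5 : allBelow (fun k => fe4 (Nat.add 18415 k)) 3683 = true := by decide +kernel
theorem e4c6 : allBelow (fun k => fe4 (Nat.add 22098 k)) 3683 = true := by decide +kernel
theorem e4c7 : allBelow (fun k => fe4 (Nat.add 25781 k)) 3683 = true := by decide +kernel
theorem e4c8 : allBelow (fun k => fe4 (Nat.add 29464 k)) 3683 = true := by decide +kernel
theorem e4c9 : allBelow (fun k => fe4 (Nat.add 33147 k)) 3683 = true := by decide +kernel
theorem e4c10 : allBelow (fun k => fe4 (Nat.add 36830 k)) 3683 = true := by decide +kernel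
theorem e4c11 : allBelow (fun k => fe4 (Nat.add 40513 k)) 3683 = true := by decide +kernel
theorem e4c12 : allBelow (fun k => fe4 (Nat.add 44196 k)) 3683 = true := by decide +kernel
theorem e4c13 : allBelow (fun k => fe4 (Nat.add 47879 k)) 3683 = true := by decide +kernel
theorem e4c14 : allBelow (fun k => fe4 (Nat.add 51562 k)) 3683 = true := by decide +kernel
theorem e4c15 : allBelow (fun k => fe4 (Nat.add 55245 k)) 3683 = true := by decide +kernel
theorem e4c16 : allBelow (fun k => fe4 (Nat.add 58928 k)) 3683 = true := by decide +kernel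
theorem e4c17 : allBelow (fun k => fe4 (Nat.add 62611 k)) 3683 = true := by decide +kernel
theorem e4c18 : allBelow (fun k => fe4 (Nat.add 66294 k)) 3683 = true := by decide +kernel
theorem e4c19 : allBelow (fun k => fe4 (Nat.add 69977 k)) 3683 = true := by decide +kernel
theorem e4c20 : allBelow (fun k => fe4 (Nat.add 73660 k)) 3683 = true := by decide +kernel
theorem e4c21 : allBelow (fun k => fe4 (Nat.add 77343 k)) 3683 = true := by decide +kernel
theorem e4c22 : allBelow (fun k => fe4 (Nat.add 81026 k)) 3683 = true := by decide +kernel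
theorem e4c23 : allBelow (fun k => fe4 (Nat.add 84709 k)) 3683 = true := by decide +kernel
theorem e4c24 : allBelow (fun k => fe4 (Nat.add 88392 k)) 3683 = true := by decide +kernel
theorem e4c25 : allBelow (fun k => fe4 (Nat.add 92075 k)) 3683 = true := by decide +kernel
theorem e4c26 : allBelow (fun k => fe4 (Nat.add 95758 k)) 3683 = true := by decide +kernel
theorem e4c27 : allBelow (fun k => fe4 (Nat.add 99441 k)) 3683 = true := by decide +kernel
theorem e4c28 : allBelow (fun k => fe4 (Nat.add 103124 k)) 3683 = true := by decide +kernel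
theorem e4c29 : allBelow (fun k => fe4 (Nat.add 106807 k)) 3683 = true := by decide +kernel
theorem e4c30 : allBelow (fun k => fe4 (Nat.add 110490 k)) 3683 = true := by decide +kernel
theorem e4c31 : allBelow (fun k => fe4 (Nat.add 114173 k)) 3683 = true := by decide +kernel
theorem e4c32 : allBelow (fun k => fe4 (Nat.add 117856 k)) 3683 = true := by decide +kernel
theorem e4c33 : allBelow (fun k => fe4 (Nat.add 121539 k)) 1221 = true := by decide +kernel
theorem e5c0 : allBelow (fun k => fe5 (Nat.add 0 k)) 3683 = true := by decide +kernel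
theorem e5c1 : allBelow (fun k => fe5 (Nat.add 3683 k)) 3683 = true := by decide +kernel
theorem e5c2 : allBelow (fun k => fe5 (Nat.add 7366 k)) 3683 = true := by decide +kernel
theorem e5c3 : allBelow (fun k => fe5 (Nat.add 11049 k)) 3683 = true := by decide +kernel
theorem e5c4 : allBelow (fun k => fe5 (Nat.add 14732 k)) 3683 = true := by decide +kernel
theorem e5c5 : allBelow (fun k => fe5 (Nat.add 18415 k)) 3683 = true := by decide +kernel
theorem e5c6 : allBelow (fun k => fe5 (Nat.add 22098 k)) 3683 = true := by decide +kernel
theorem e5c7 : allBelow (fun k => fe5 (Nat.add 25781 k)) 3683 = true := by decide +kernel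
theorem e5c8 : allBelow (fun k => fe5 (Nat.add 29464 k)) 3683 = true := by decide +kernel
theorem e5c9 : allBelow (fun k => fe5 (Nat.add 33147 k)) 3683 = true := by decide +kernel
theorem e5c10 : allBelow (fun k => fe5 (Nat.add 36830 k)) 3683 = true := by decide +kernel
theorem e5c11 : allBelow (fun k => fe5 (Nat.add 40513 k)) 3683 = true := by decide +kernel
theorem e5c12 : allBelow (fun k => fe5 (Nat.add 44196 k)) 3683 = true := by decide +kernel

end Cfsg.Agent.Lib.Helper35.ONFast
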