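import Cfsg.Agent.Lib.Helper35.ONFast.Data

set_option Elab.async false

namespace Cfsg.Agent.Lib.Helper35.ONFast

open Cfsg.Agent.Lib.Helper35

theorem e5c13 : allBelow (fun k => fe5 (Nat.add 47879 k)) 3683 = true := by decide +kernel
theorem e5c14 : allBelow (fun k => fe5 (Nat.add 51562 k)) 3683 = true := by decide +kernel
theorem e5c15 : allBelow (fun k => fe5 (Nat.add 55245 k)) 3683 = true := by decide +kernel
theorem e5c16 : allBelow (fun k => fe5 (Nat.add 58928 k)) 3683 = true := by decide +kernel
theorem e5c17 : allBelow (fun k => fe5 (Nat.add 62611 k)) 3683 = true := by decide +kernel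
theorem e5c18 : allBelow (fun k => fe5 (Nat.add 66294 k)) 3683 = true := by decide +kernel
theorem e5c19 : allBelow (fun k => fe5 (Nat.add 69977 k)) 3683 = true := by decide +kernel
theorem e5c20 : allBelow (fun k => fe5 (Nat.add 73660 k)) 3683 = true := by decide +kernel
theorem e5c21 : allBelow (fun k => fe5 (Nat.add 77343 k)) 3683 = true := by decide +kernel
theorem e5c22 : allBelow (fun k => fe5 (Nat.add 81026 k)) 3683 = true := by decide +kernel
theorem e5c23 : allBelow (fun k => fe5 (Nat.add 84709 k)) 3683 = true := by decide +kernel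
theorem e5c24 : allBelow (fun k => fe5 (Nat.add 88392 k)) 3683 = true := by decide +kernel
theorem e5c25 : allBelow (fun k => fe5 (Nat.add 92075 k)) 3683 = true := by decide +kernel
theorem e5c26 : allBelow (fun k => fe5 (Nat.add 95758 k)) 3683 = true := by decide +kernel
theorem e5c27 : allBelow (fun k => fe5 (Nat.add 99441 k)) 3683 = true := by decide +kernel
theorem e5c28 : allBelow (fun k => fe5 (Nat.add 103124 k)) 3683 = true := by decide +kernel
theorem e5c29 : allBelow (fun k => fe5 (Nat.add 106807 k)) 3683 = true := by decide +kernel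
theorem e5c30 : allBelow (fun k => fe5 (Nat.add 110490 k)) 3683 = true := by decide +kernel
theorem e5c31 : allBelow (fun k => fe5 (Nat.add 114173 k)) 3683 = true := by decide +kernel
theorem e5c32 : allBelow (fun k => fe5 (Nat.add 117856 k)) 3683 = true := by decide +kernel
theorem e5c33 : allBelow (fun k => fe5 (Nat.add 121539 k)) 1221 = true := by decide +kernel
theorem e6c0 : allBelow (fun k => fe6 (Nat.add 0 k)) 3683 = true := by decide +kernel
theorem e6c1 : allBelow (fun k => fe6 (Nat.add 3683 k)) 3683 = true := by decide +kernel
theorem e6c2 : allBelow (fun k => fe6 (Nat.add 7366 k)) 3683 = true := by decide +kernel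
theorem e6c3 : allBelow (fun k => fe6 (Nat.add 11049 k)) 3683 = true := by decide +kernel
theorem e6c4 : allBelow (fun k => fe6 (Nat.add 14732 k)) 3683 = true := by decide +kernel
theorem e6c5 : allBelow (fun k => fe6 (Nat.add 18415 k)) 3683 = true := by decide +kernel
theorem e6c6 : allBelow (fun k => fe6 (Nat.add 22098 k)) 3683 = true := by decide +kernel
theorem e6c7 : allBelow (fun k => fe6 (Nat.add 25781 k)) 3683 = true := by decide +kernel
theorem e6c8 : allBelow (fun k => fe6 (Nat.add 29464 k)) 3683 = true := by decide +kernel
theorem e6c9 : allBelow (fun k => fe6 (Nat.add 33147 k)) 3683 = true := by decide +kernel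
theorem e6c10 : allBelow (fun k => fe6 (Nat.add 36830 k)) 3683 = true := by decide +kernel
theorem e6c11 : allBelow (fun k => fe6 (Nat.add 40513 k)) 3683 = true := by decide +kernel
theorem e6c12 : allBelow (fun k => fe6 (Nat.add 44196 k)) 3683 = true := by decide +kernel
theorem e6c13 : allBelow (fun k => fe6 (Nat.add 47879 k)) 3683 = true := by decide +kernel
theorem e6c14 : allBelow (fun k => fe6 (Nat.add 51562 k)) 3683 = true := by decide +kernel
theorem e6c15 : allBelow (fun k => fe6 (Nat.add 55245 k)) 3683 = true := by decide +kernel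
theorem e6c16 : allBelow (fun k => fe6 (Nat.add 58928 k)) 3683 = true := by decide +kernel
theorem e6c17 : allBelow (fun k => fe6 (Nat.add 62611 k)) 3683 = true := by decide +kernel
theorem e6c18 : allBelow (fun k => fe6 (Nat.add 66294 k)) 3683 = true := by decide +kernel
theorem e6c19 : allBelow (fun k => fe6 (Nat.add 69977 k)) 3683 = true := by decide +kernel
theorem e6c20 : allBelow (fun k => fe6 (Nat.add 73660 k)) 3683 = true := by decide +kernel
theorem e6c21 : allBelow (fun k => fe6 (Nat.add 77343 k)) 3683 = true := by decide +kernel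
theorem e6c22 : allBelow (fun k => fe6 (Nat.add 81026 k)) 3683 = true := by decide +kernel
theorem e6c23 : allBelow (fun k => fe6 (Nat.add 84709 k)) 3683 = true := by decide +kernel
theorem e6c24 : allBelow (fun k => fe6 (Nat.add 88392 k)) 3683 = true := by decide +kernel
theorem e6c25 : allBelow (fun k => fe6 (Nat.add 92075 k)) 3683 = true := by decide +kernel
theorem e6c26 : allBelow (fun k => fe6 (Nat.add 95758 k)) 3683 = true := by decide +kernel
theorem e6c27 : allBelow (fun k => fe6 (Nat.add 99441 k)) 3683 = true := by decide +kernel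
theorem e6c28 : allBelow (fun k => fe6 (Nat.add 103124 k)) 3683 = true := by decide +kernel
theorem e6c29 : allBelow (fun k => fe6 (Nat.add 106807 k)) 3683 = true := by decide +kernel
theorem e6c30 : allBelow (fun k => fe6 (Nat.add 110490 k)) 3683 = true := by decide +kernel
theorem e6c31 : allBelow (fun k => fe6 (Nat.add 114173 k)) 3683 = true := by decide +kernel
theorem e6c32 : allBelow (fun k => fe6 (Nat.add 117856 k)) 3683 = true := by decide +kernel
theorem e6c33 : allBelow (fun k => fe6 (Nat.add 121539 k)) 1221 = true := by decide +kernel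
theorem e7c0 : allBelow (fun k => fe7 (Nat.add 0 k)) 3683 = true := by decide +kernel
theorem e7c1 : allBelow (fun k => fe7 (Nat.add 3683 k)) 3683 = true := by decide +kernel
theorem e7c2 : allBelow (fun k => fe7 (Nat.add 7366 k)) 3683 = true := by decide +kernel
theorem e7c3 : allBelow (fun k => fe7 (Nat.add 11049 k)) 3683 = true := by decide +kernel
theorem e7c4 : allBelow (fun k => fe7 (Nat.add 14732 k)) 3683 = true := by decide +kernel
theorem e7c5 : allBelow (fun k => fe7 (Nat.add 18415 k)) 3683 = true := by decide +kernel

end Cfsg.Agent.Lib.Helper35.ONFast
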