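import Cfsg.Agent.Lib.Helper35.ONFast.Chk0
import Cfsg.Agent.Lib.Helper35.ONFast.Chk1
import Cfsg.Agent.Lib.Helper35.ONFast.Chk2
import Cfsg.Agent.Lib.Helper35.ONFast.Chk3
import Cfsg.Agent.Lib.Helper35.ONFast.Chk4

namespace Cfsg.Agent.Lib.Helper35.ONFast

open Cfsg.Agent.Lib.Helper35

theorem e0u0 : ∀ i, i < 3683 → fe0 i = true := below_step fe0 0 3683 3683 (below_zero fe0) e0c0 rfl
theorem e0u1 : ∀ i, i < 7366 → fe0 i = true := below_step fe0 3683 3683 7366 e0u0 e0c1 rfl
theorem e0u2 : ∀ i, i < 11049 → fe0 i = true := below_step fe0 7366 3683 11049 e0u1 e0c2 rfl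
theorem e0u3 : ∀ i, i < 14732 → fe0 i = true := below_step fe0 11049 3683 14732 e0u2 e0c3 rfl
theorem e0u4 : ∀ i, i < 18415 → fe0 i = true := below_step fe0 14732 3683 18415 e0u3 e0c4 rfl
theorem e0u5 : ∀ i, i < 22098 → fe0 i = true := below_step fe0 18415 3683 22098 e0u4 e0c5 rfl
theorem e0u6 : ∀ i, i < 25781 → fe0 i = true := below_step fe0 22098 3683 25781 e0u5 e0c6 rfl
theorem e0u7 : ∀ i, i < 29464 → fe0 i = true := below_step fe0 25781 3683 29464 e0u6 e0c7 rfl
theorem e0u8 : ∀ i, i < 33147 → fe0 i = true := below_step fe0 29464 3683 33147 e0u7 e0c8 rfl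
theorem e0u9 : ∀ i, i < 36830 → fe0 i = true := below_step fe0 33147 3683 36830 e0u8 e0c9 rfl
theorem e0u10 : ∀ i, i < 40513 → fe0 i = true := below_step fe0 36830 3683 40513 e0u9 e0c10 rfl
theorem e0u11 : ∀ i, i < 44196 → fe0 i = true := below_step fe0 40513 3683 44196 e0u10 e0c11 rfl
theorem e0u12 : ∀ i, i < 47879 → fe0 i = true := below_step fe0 44196 3683 47879 e0u11 e0c12 rfl
theorem e0u13 : ∀ i, i < 51562 → fe0 i = true := below_step fe0 47879 3683 51562 e0u12 e0c13 rfl
theorem e0u14 : ∀ i, i < 55245 → fe0 i = true := below_step fe0 51562 3683 55245 e0u13 e0c14 rfl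
theorem e0u15 : ∀ i, i < 58928 → fe0 i = true := below_step fe0 55245 3683 58928 e0u14 e0c15 rfl
theorem e0u16 : ∀ i, i < 62611 → fe0 i = true := below_step fe0 58928 3683 62611 e0u15 e0c16 rfl
theorem e0u17 : ∀ i, i < 66294 → fe0 i = true := below_step fe0 62611 3683 66294 e0u16 e0c17 rfl
theorem e0u18 : ∀ i, i < 69977 → fe0 i = true := below_step fe0 66294 3683 69977 e0u17 e0c18 rfl
theorem e0u19 : ∀ i, i < 73660 → fe0 i = true := below_step fe0 69977 3683 73660 e0u18 e0c19 rfl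
theorem e0u20 : ∀ i, i < 77343 → fe0 i = true := below_step fe0 73660 3683 77343 e0u19 e0c20 rfl
theorem e0u21 : ∀ i, i < 81026 → fe0 i = true := below_step fe0 77343 3683 81026 e0u20 e0c21 rfl
theorem e0u22 : ∀ i, i < 84709 → fe0 i = true := below_step fe0 81026 3683 84709 e0u21 e0c22 rfl
theorem e0u23 : ∀ i, i < 88392 → fe0 i = true := below_step fe0 84709 3683 88392 e0u22 e0c23 rfl
theorem e0u24 : ∀ i, i < 92075 → fe0 i = true := below_step fe0 88392 3683 92075 e0u23 e0c24 rfl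
theorem e0u25 : ∀ i, i < 95758 → fe0 i = true := below_step fe0 92075 3683 95758 e0u24 e0c25 rfl
theorem e0u26 : ∀ i, i < 99441 → fe0 i = true := below_step fe0 95758 3683 99441 e0u25 e0c26 rfl
theorem e0u27 : ∀ i, i < 103124 → fe0 i = true := below_step fe0 99441 3683 103124 e0u26 e0c27 rfl
theorem e0u28 : ∀ i, i < 106807 → fe0 i = true := below_step fe0 103124 3683 106807 e0u27 e0c28 rfl
theorem e0u29 : ∀ i, i < 110490 → fe0 i = true := below_step fe0 106807 3683 110490 e0u28 e0c29 rfl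
theorem e0u30 : ∀ i, i < 114173 → fe0 i = true := below_step fe0 110490 3683 114173 e0u29 e0c30 rfl
theorem e0u31 : ∀ i, i < 117856 → fe0 i = true := below_step fe0 114173 3683 117856 e0u30 e0c31 rfl
theorem e0u32 : ∀ i, i < 121539 → fe0 i = true := below_step fe0 117856 3683 121539 e0u31 e0c32 rfl
theorem e0u33 : ∀ i, i < 122760 → fe0 i = true := below_step fe0 121539 1221 122760 e0u32 e0c33 rfl
theorem e1u0 : ∀ i, i < 3683 → fe1 i = true := below_step fe1 0 3683 3683 (below_zero fe1) e1c0 rfl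
theorem e1u1 : ∀ i, i < 7366 → fe1 i = true := below_step fe1 3683 3683 7366 e1u0 e1c1 rfl
theorem e1u2 : ∀ i, i < 11049 → fe1 i = true := below_step fe1 7366 3683 11049 e1u1 e1c2 rfl
theorem e1u3 : ∀ i, i < 14732 → fe1 i = true := below_step fe1 11049 3683 14732 e1u2 e1c3 rfl
theorem e1u4 : ∀ i, i < 18415 → fe1 i = true := below_step fe1 14732 3683 18415 e1u3 e1c4 rfl
theorem e1u5 : ∀ i, i < 22098 → fe1 i = true := below_step fe1 18415 3683 22098 e1u4 e1c5 rfl
theorem e1u6 : ∀ i, i < 25781 → fe1 i = true := below_step fe1 22098 3683 25781 e1u5 e1c6 rfl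
theorem e1u7 : ∀ i, i < 29464 → fe1 i = true := below_step fe1 25781 3683 29464 e1u6 e1c7 rfl
theorem e1u8 : ∀ i, i < 33147 → fe1 i = true := below_step fe1 29464 3683 33147 e1u7 e1c8 rfl
theorem e1u9 : ∀ i, i < 36830 → fe1 i = true := below_step fe1 33147 3683 36830 e1u8 e1c9 rfl
theorem e1u10 : ∀ i, i < 40513 → fe1 i = true := below_step fe1 36830 3683 40513 e1u9 e1c10 rfl
theorem e1u11 : ∀ i, i < 44196 → fe1 i = true := below_step fe1 40513 3683 44196 e1u10 e1c11 rfl
theorem e1u12 : ∀ i, i < 47879 → fe1 i = true := below_step fe1 44196 3683 47879 e1u11 e1c12 rfl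
theorem e1u13 : ∀ i, i < 51562 → fe1 i = true := below_step fe1 47879 3683 51562 e1u12 e1c13 rfl
theorem e1u14 : ∀ i, i < 55245 → fe1 i = true := below_step fe1 51562 3683 55245 e1u13 e1c14 rfl
theorem e1u15 : ∀ i, i < 58928 → fe1 i = true := below_step fe1 55245 3683 58928 e1u14 e1c15 rfl
theorem e1u16 : ∀ i, i < 62611 → fe1 i = true := below_step fe1 58928 3683 62611 e1u15 e1c16 rfl
theorem e1u17 : ∀ i, i < 66294 → fe1 i = true := below_step fe1 62611 3683 66294 e1u16 e1c17 rfl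
theorem e1u18 : ∀ i, i < 69977 → fe1 i = true := below_step fe1 66294 3683 69977 e1u17 e1c18 rfl
theorem e1u19 : ∀ i, i < 73660 → fe1 i = true := below_step fe1 69977 3683 73660 e1u18 e1c19 rfl
theorem e1u20 : ∀ i, i < 77343 → fe1 i = true := below_step fe1 73660 3683 77343 e1u19 e1c20 rfl
theorem e1u21 : ∀ i, i < 81026 → fe1 i = true := below_step fe1 77343 3683 81026 e1u20 e1c21 rfl
theorem e1u22 : ∀ i, i < 84709 → fe1 i = true := below_step fe1 81026 3683 84709 e1u21 e1c22 rfl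
theorem e1u23 : ∀ i, i < 88392 → fe1 i = true := below_step fe1 84709 3683 88392 e1u22 e1c23 rfl
theorem e1u24 : ∀ i, i < 92075 → fe1 i = true := below_step fe1 88392 3683 92075 e1u23 e1c24 rfl
theorem e1u25 : ∀ i, i < 95758 → fe1 i = true := below_step fe1 92075 3683 95758 e1u24 e1c25 rfl
theorem e1u26 : ∀ i, i < 99441 → fe1 i = true := below_step fe1 95758 3683 99441 e1u25 e1c26 rfl
theorem e1u27 : ∀ i, i < 103124 → fe1 i = true := below_step fe1 99441 3683 103124 e1u26 e1c27 rfl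
theorem e1u28 : ∀ i, i < 106807 → fe1 i = true := below_step fe1 103124 3683 106807 e1u27 e1c28 rfl
theorem e1u29 : ∀ i, i < 110490 → fe1 i = true := below_step fe1 106807 3683 110490 e1u28 e1c29 rfl
theorem e1u30 : ∀ i, i < 114173 → fe1 i = true := below_step fe1 110490 3683 114173 e1u29 e1c30 rfl
theorem e1u31 : ∀ i, i < 117856 → fe1 i = true := below_step fe1 114173 3683 117856 e1u30 e1c31 rfl
theorem e1u32 : ∀ i, i < 121539 → fe1 i = true := below_step fe1 117856 3683 121539 e1u31 e1c32 rfl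
theorem e1u33 : ∀ i, i < 122760 → fe1 i = true := below_step fe1 121539 1221 122760 e1u32 e1c33 rfl
theorem e2u0 : ∀ i, i < 3683 → fe2 i = true := below_step fe2 0 3683 3683 (below_zero fe2) e2c0 rfl
theorem e2u1 : ∀ i, i < 7366 → fe2 i = true := below_step fe2 3683 3683 7366 e2u0 e2c1 rfl
theorem e2u2 : ∀ i, i < 11049 → fe2 i = true := below_step fe2 7366 3683 11049 e2u1 e2c2 rfl
theorem e2u3 : ∀ i, i < 14732 → fe2 i = true := below_step fe2 11049 3683 14732 e2u2 e2c3 rfl
theorem e2u4 : ∀ i, i < 18415 → fe2 i = true := below_step fe2 14732 3683 18415 e2u3 e2c4 rfl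
theorem e2u5 : ∀ i, i < 22098 → fe2 i = true := below_step fe2 18415 3683 22098 e2u4 e2c5 rfl
theorem e2u6 : ∀ i, i < 25781 → fe2 i = true := below_step fe2 22098 3683 25781 e2u5 e2c6 rfl
theorem e2u7 : ∀ i, i < 29464 → fe2 i = true := below_step fe2 25781 3683 29464 e2u6 e2c7 rfl
theorem e2u8 : ∀ i, i < 33147 → fe2 i = true := below_step fe2 29464 3683 33147 e2u7 e2c8 rfl
theorem e2u9 : ∀ i, i < 36830 → fe2 i = true := below_step fe2 33147 3683 36830 e2u8 e2c9 rfl
theorem e2u10 : ∀ i, i < 40513 → fe2 i = true := below_step fe2 36830 3683 40513 e2u9 e2c10 rfl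
theorem e2u11 : ∀ i, i < 44196 → fe2 i = true := below_step fe2 40513 3683 44196 e2u10 e2c11 rfl
theorem e2u12 : ∀ i, i < 47879 → fe2 i = true := below_step fe2 44196 3683 47879 e2u11 e2c12 rfl
theorem e2u13 : ∀ i, i < 51562 → fe2 i = true := below_step fe2 47879 3683 51562 e2u12 e2c13 rfl
theorem e2u14 : ∀ i, i < 55245 → fe2 i = true := below_step fe2 51562 3683 55245 e2u13 e2c14 rfl
theorem e2u15 : ∀ i, i < 58928 → fe2 i = true := below_step fe2 55245 3683 58928 e2u14 e2c15 rfl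
theorem e2u16 : ∀ i, i < 62611 → fe2 i = true := below_step fe2 58928 3683 62611 e2u15 e2c16 rfl
theorem e2u17 : ∀ i, i < 66294 → fe2 i = true := below_step fe2 62611 3683 66294 e2u16 e2c17 rfl
theorem e2u18 : ∀ i, i < 69977 → fe2 i = true := below_step fe2 66294 3683 69977 e2u17 e2c18 rfl
theorem e2u19 : ∀ i, i < 73660 → fe2 i = true := below_step fe2 69977 3683 73660 e2u18 e2c19 rfl
theorem e2u20 : ∀ i, i < 77343 → fe2 i = true := below_step fe2 73660 3683 77343 e2u19 e2c20 rfl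
theorem e2u21 : ∀ i, i < 81026 → fe2 i = true := below_step fe2 77343 3683 81026 e2u20 e2c21 rfl
theorem e2u22 : ∀ i, i < 84709 → fe2 i = true := below_step fe2 81026 3683 84709 e2u21 e2c22 rfl
theorem e2u23 : ∀ i, i < 88392 → fe2 i = true := below_step fe2 84709 3683 88392 e2u22 e2c23 rfl
theorem e2u24 : ∀ i, i < 92075 → fe2 i = true := below_step fe2 88392 3683 92075 e2u23 e2c24 rfl
theorem e2u25 : ∀ i, i < 95758 → fe2 i = true := below_step fe2 92075 3683 95758 e2u24 e2c25 rfl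
theorem e2u26 : ∀ i, i < 99441 → fe2 i = true := below_step fe2 95758 3683 99441 e2u25 e2c26 rfl
theorem e2u27 : ∀ i, i < 103124 → fe2 i = true := below_step fe2 99441 3683 103124 e2u26 e2c27 rfl
theorem e2u28 : ∀ i, i < 106807 → fe2 i = true := below_step fe2 103124 3683 106807 e2u27 e2c28 rfl
theorem e2u29 : ∀ i, i < 110490 → fe2 i = true := below_step fe2 106807 3683 110490 e2u28 e2c29 rfl
theorem e2u30 : ∀ i, i < 114173 → fe2 i = true := below_step fe2 110490 3683 114173 e2u29 e2c30 rfl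
theorem e2u31 : ∀ i, i < 117856 → fe2 i = true := below_step fe2 114173 3683 117856 e2u30 e2c31 rfl
theorem e2u32 : ∀ i, i < 121539 → fe2 i = true := below_step fe2 117856 3683 121539 e2u31 e2c32 rfl
theorem e2u33 : ∀ i, i < 122760 → fe2 i = true := below_step fe2 121539 1221 122760 e2u32 e2c33 rfl
theorem e3u0 : ∀ i, i < 3683 → fe3 i = true := below_step fe3 0 3683 3683 (below_zero fe3) e3c0 rfl
theorem e3u1 : ∀ i, i < 7366 → fe3 i = true := below_step fe3 3683 3683 7366 e3u0 e3c1 rfl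
theorem e3u2 : ∀ i, i < 11049 → fe3 i = true := below_step fe3 7366 3683 11049 e3u1 e3c2 rfl
theorem e3u3 : ∀ i, i < 14732 → fe3 i = true := below_step fe3 11049 3683 14732 e3u2 e3c3 rfl
theorem e3u4 : ∀ i, i < 18415 → fe3 i = true := below_step fe3 14732 3683 18415 e3u3 e3c4 rfl
theorem e3u5 : ∀ i, i < 22098 → fe3 i = true := below_step fe3 18415 3683 22098 e3u4 e3c5 rfl
theorem e3u6 : ∀ i, i < 25781 → fe3 i = true := below_step fe3 22098 3683 25781 e3u5 e3c6 rfl
theorem e3u7 : ∀ i, i < 29464 → fe3 i = true := below_step fe3 25781 3683 29464 e3u6 e3c7 rfl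
theorem e3u8 : ∀ i, i < 33147 → fe3 i = true := below_step fe3 29464 3683 33147 e3u7 e3c8 rfl
theorem e3u9 : ∀ i, i < 36830 → fe3 i = true := below_step fe3 33147 3683 36830 e3u8 e3c9 rfl
theorem e3u10 : ∀ i, i < 40513 → fe3 i = true := below_step fe3 36830 3683 40513 e3u9 e3c10 rfl
theorem e3u11 : ∀ i, i < 44196 → fe3 i = true := below_step fe3 40513 3683 44196 e3u10 e3c11 rfl
theorem e3u12 : ∀ i, i < 47879 → fe3 i = true := below_step fe3 44196 3683 47879 e3u11 e3c12 rfl
theorem e3u13 : ∀ i, i < 51562 → fe3 i = true := below_step fe3 47879 3683 51562 e3u12 e3c13 rfl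
theorem e3u14 : ∀ i, i < 55245 → fe3 i = true := below_step fe3 51562 3683 55245 e3u13 e3c14 rfl
theorem e3u15 : ∀ i, i < 58928 → fe3 i = true := below_step fe3 55245 3683 58928 e3u14 e3c15 rfl
theorem e3u16 : ∀ i, i < 62611 → fe3 i = true := below_step fe3 58928 3683 62611 e3u15 e3c16 rfl
theorem e3u17 : ∀ i, i < 66294 → fe3 i = true := below_step fe3 62611 3683 66294 e3u16 e3c17 rfl
theorem e3u18 : ∀ i, i < 69977 → fe3 i = true := below_step fe3 66294 3683 69977 e3u17 e3c18 rfl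
theorem e3u19 : ∀ i, i < 73660 → fe3 i = true := below_step fe3 69977 3683 73660 e3u18 e3c19 rfl
theorem e3u20 : ∀ i, i < 77343 → fe3 i = true := below_step fe3 73660 3683 77343 e3u19 e3c20 rfl
theorem e3u21 : ∀ i, i < 81026 → fe3 i = true := below_step fe3 77343 3683 81026 e3u20 e3c21 rfl
theorem e3u22 : ∀ i, i < 84709 → fe3 i = true := below_step fe3 81026 3683 84709 e3u21 e3c22 rfl
theorem e3u23 : ∀ i, i < 88392 → fe3 i = true := below_step fe3 84709 3683 88392 e3u22 e3c23 rfl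
theorem e3u24 : ∀ i, i < 92075 → fe3 i = true := below_step fe3 88392 3683 92075 e3u23 e3c24 rfl
theorem e3u25 : ∀ i, i < 95758 → fe3 i = true := below_step fe3 92075 3683 95758 e3u24 e3c25 rfl
theorem e3u26 : ∀ i, i < 99441 → fe3 i = true := below_step fe3 95758 3683 99441 e3u25 e3c26 rfl
theorem e3u27 : ∀ i, i < 103124 → fe3 i = true := below_step fe3 99441 3683 103124 e3u26 e3c27 rfl
theorem e3u28 : ∀ i, i < 106807 → fe3 i = true := below_step fe3 103124 3683 106807 e3u27 e3c28 rfl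
theorem e3u29 : ∀ i, i < 110490 → fe3 i = true := below_step fe3 106807 3683 110490 e3u28 e3c29 rfl
theorem e3u30 : ∀ i, i < 114173 → fe3 i = true := below_step fe3 110490 3683 114173 e3u29 e3c30 rfl
theorem e3u31 : ∀ i, i < 117856 → fe3 i = true := below_step fe3 114173 3683 117856 e3u30 e3c31 rfl
theorem e3u32 : ∀ i, i < 121539 → fe3 i = true := below_step fe3 117856 3683 121539 e3u31 e3c32 rfl
theorem e3u33 : ∀ i, i < 122760 → fe3 i = true := below_step fe3 121539 1221 122760 e3u32 e3c33 rfl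
theorem e4u0 : ∀ i, i < 3683 → fe4 i = true := below_step fe4 0 3683 3683 (below_zero fe4) e4c0 rfl
theorem e4u1 : ∀ i, i < 7366 → fe4 i = true := below_step fe4 3683 3683 7366 e4u0 e4c1 rfl
theorem e4u2 : ∀ i, i < 11049 → fe4 i = true := below_step fe4 7366 3683 11049 e4u1 e4c2 rfl
theorem e4u3 : ∀ i, i < 14732 → fe4 i = true := below_step fe4 11049 3683 14732 e4u2 e4c3 rfl
theorem e4u4 : ∀ i, i < 18415 → fe4 i = true := below_step fe4 14732 3683 18415 e4u3 e4c4 rfl
theorem e4u5 : ∀ i, i < 22098 → fe4 i = true := below_step fe4 18415 3683 22098 e4u4 e4c5 rfl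
theorem e4u6 : ∀ i, i < 25781 → fe4 i = true := below_step fe4 22098 3683 25781 e4u5 e4c6 rfl
theorem e4u7 : ∀ i, i < 29464 → fe4 i = true := below_step fe4 25781 3683 29464 e4u6 e4c7 rfl
theorem e4u8 : ∀ i, i < 33147 → fe4 i = true := below_step fe4 29464 3683 33147 e4u7 e4c8 rfl
theorem e4u9 : ∀ i, i < 36830 → fe4 i = true := below_step fe4 33147 3683 36830 e4u8 e4c9 rfl
theorem e4u10 : ∀ i, i < 40513 → fe4 i = true := below_step fe4 36830 3683 40513 e4u9 e4c10 rfl
theorem e4u11 : ∀ i, i < 44196 → fe4 i = true := below_step fe4 40513 3683 44196 e4u10 e4c11 rfl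
theorem e4u12 : ∀ i, i < 47879 → fe4 i = true := below_step fe4 44196 3683 47879 e4u11 e4c12 rfl
theorem e4u13 : ∀ i, i < 51562 → fe4 i = true := below_step fe4 47879 3683 51562 e4u12 e4c13 rfl
theorem e4u14 : ∀ i, i < 55245 → fe4 i = true := below_step fe4 51562 3683 55245 e4u13 e4c14 rfl
theorem e4u15 : ∀ i, i < 58928 → fe4 i = true := below_step fe4 55245 3683 58928 e4u14 e4c15 rfl
theorem e4u16 : ∀ i, i < 62611 → fe4 i = true := below_step fe4 58928 3683 62611 e4u15 e4c16 rfl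
theorem e4u17 : ∀ i, i < 66294 → fe4 i = true := below_step fe4 62611 3683 66294 e4u16 e4c17 rfl
theorem e4u18 : ∀ i, i < 69977 → fe4 i = true := below_step fe4 66294 3683 69977 e4u17 e4c18 rfl
theorem e4u19 : ∀ i, i < 73660 → fe4 i = true := below_step fe4 69977 3683 73660 e4u18 e4c19 rfl
theorem e4u20 : ∀ i, i < 77343 → fe4 i = true := below_step fe4 73660 3683 77343 e4u19 e4c20 rfl
theorem e4u21 : ∀ i, i < 81026 → fe4 i = true := below_step fe4 77343 3683 81026 e4u20 e4c21 rfl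
theorem e4u22 : ∀ i, i < 84709 → fe4 i = true := below_step fe4 81026 3683 84709 e4u21 e4c22 rfl
theorem e4u23 : ∀ i, i < 88392 → fe4 i = true := below_step fe4 84709 3683 88392 e4u22 e4c23 rfl
theorem e4u24 : ∀ i, i < 92075 → fe4 i = true := below_step fe4 88392 3683 92075 e4u23 e4c24 rfl
theorem e4u25 : ∀ i, i < 95758 → fe4 i = true := below_step fe4 92075 3683 95758 e4u24 e4c25 rfl
theorem e4u26 : ∀ i, i < 99441 → fe4 i = true := below_step fe4 95758 3683 99441 e4u25 e4c26 rfl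
theorem e4u27 : ∀ i, i < 103124 → fe4 i = true := below_step fe4 99441 3683 103124 e4u26 e4c27 rfl
theorem e4u28 : ∀ i, i < 106807 → fe4 i = true := below_step fe4 103124 3683 106807 e4u27 e4c28 rfl
theorem e4u29 : ∀ i, i < 110490 → fe4 i = true := below_step fe4 106807 3683 110490 e4u28 e4c29 rfl
theorem e4u30 : ∀ i, i < 114173 → fe4 i = true := below_step fe4 110490 3683 114173 e4u29 e4c30 rfl
theorem e4u31 : ∀ i, i < 117856 → fe4 i = true := below_step fe4 114173 3683 117856 e4u30 e4c31 rfl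
theorem e4u32 : ∀ i, i < 121539 → fe4 i = true := below_step fe4 117856 3683 121539 e4u31 e4c32 rfl
theorem e4u33 : ∀ i, i < 122760 → fe4 i = true := below_step fe4 121539 1221 122760 e4u32 e4c33 rfl
theorem e5u0 : ∀ i, i < 3683 → fe5 i = true := below_step fe5 0 3683 3683 (below_zero fe5) e5c0 rfl
theorem e5u1 : ∀ i, i < 7366 → fe5 i = true := below_step fe5 3683 3683 7366 e5u0 e5c1 rfl
theorem e5u2 : ∀ i, i < 11049 → fe5 i = true := below_step fe5 7366 3683 11049 e5u1 e5c2 rfl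
theorem e5u3 : ∀ i, i < 14732 → fe5 i = true := below_step fe5 11049 3683 14732 e5u2 e5c3 rfl
theorem e5u4 : ∀ i, i < 18415 → fe5 i = true := below_step fe5 14732 3683 18415 e5u3 e5c4 rfl
theorem e5u5 : ∀ i, i < 22098 → fe5 i = true := below_step fe5 18415 3683 22098 e5u4 e5c5 rfl
theorem e5u6 : ∀ i, i < 25781 → fe5 i = true := below_step fe5 22098 3683 25781 e5u5 e5c6 rfl
theorem e5u7 : ∀ i, i < 29464 → fe5 i = true := below_step fe5 25781 3683 29464 e5u6 e5c7 rfl
theorem e5u8 : ∀ i, i < 33147 → fe5 i = true := below_step fe5 29464 3683 33147 e5u7 e5c8 rfl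
theorem e5u9 : ∀ i, i < 36830 → fe5 i = true := below_step fe5 33147 3683 36830 e5u8 e5c9 rfl
theorem e5u10 : ∀ i, i < 40513 → fe5 i = true := below_step fe5 36830 3683 40513 e5u9 e5c10 rfl
theorem e5u11 : ∀ i, i < 44196 → fe5 i = true := below_step fe5 40513 3683 44196 e5u10 e5c11 rfl
theorem e5u12 : ∀ i, i < 47879 → fe5 i = true := below_step fe5 44196 3683 47879 e5u11 e5c12 rfl
theorem e5u13 : ∀ i, i < 51562 → fe5 i = true := below_step fe5 47879 3683 51562 e5u12 e5c13 rfl
theorem e5u14 : ∀ i, i < 55245 → fe5 i = true := below_step fe5 51562 3683 55245 e5u13 e5c14 rfl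
theorem e5u15 : ∀ i, i < 58928 → fe5 i = true := below_step fe5 55245 3683 58928 e5u14 e5c15 rfl
theorem e5u16 : ∀ i, i < 62611 → fe5 i = true := below_step fe5 58928 3683 62611 e5u15 e5c16 rfl
theorem e5u17 : ∀ i, i < 66294 → fe5 i = true := below_step fe5 62611 3683 66294 e5u16 e5c17 rfl
theorem e5u18 : ∀ i, i < 69977 → fe5 i = true := below_step fe5 66294 3683 69977 e5u17 e5c18 rfl
theorem e5u19 : ∀ i, i < 73660 → fe5 i = true := below_step fe5 69977 3683 73660 e5u18 e5c19 rfl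
theorem e5u20 : ∀ i, i < 77343 → fe5 i = true := below_step fe5 73660 3683 77343 e5u19 e5c20 rfl
theorem e5u21 : ∀ i, i < 81026 → fe5 i = true := below_step fe5 77343 3683 81026 e5u20 e5c21 rfl
theorem e5u22 : ∀ i, i < 84709 → fe5 i = true := below_step fe5 81026 3683 84709 e5u21 e5c22 rfl
theorem e5u23 : ∀ i, i < 88392 → fe5 i = true := below_step fe5 84709 3683 88392 e5u22 e5c23 rfl
theorem e5u24 : ∀ i, i < 92075 → fe5 i = true := below_step fe5 88392 3683 92075 e5u23 e5c24 rfl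
theorem e5u25 : ∀ i, i < 95758 → fe5 i = true := below_step fe5 92075 3683 95758 e5u24 e5c25 rfl
theorem e5u26 : ∀ i, i < 99441 → fe5 i = true := below_step fe5 95758 3683 99441 e5u25 e5c26 rfl
theorem e5u27 : ∀ i, i < 103124 → fe5 i = true := below_step fe5 99441 3683 103124 e5u26 e5c27 rfl
theorem e5u28 : ∀ i, i < 106807 → fe5 i = true := below_step fe5 103124 3683 106807 e5u27 e5c28 rfl
theorem e5u29 : ∀ i, i < 110490 → fe5 i = true := below_step fe5 106807 3683 110490 e5u28 e5c29 rfl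
theorem e5u30 : ∀ i, i < 114173 → fe5 i = true := below_step fe5 110490 3683 114173 e5u29 e5c30 rfl
theorem e5u31 : ∀ i, i < 117856 → fe5 i = true := below_step fe5 114173 3683 117856 e5u30 e5c31 rfl
theorem e5u32 : ∀ i, i < 121539 → fe5 i = true := below_step fe5 117856 3683 121539 e5u31 e5c32 rfl
theorem e5u33 : ∀ i, i < 122760 → fe5 i = true := below_step fe5 121539 1221 122760 e5u32 e5c33 rfl
theorem e6u0 : ∀ i, i < 3683 → fe6 i = true := below_step fe6 0 3683 3683 (below_zero fe6) e6c0 rfl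
theorem e6u1 : ∀ i, i < 7366 → fe6 i = true := below_step fe6 3683 3683 7366 e6u0 e6c1 rfl
theorem e6u2 : ∀ i, i < 11049 → fe6 i = true := below_step fe6 7366 3683 11049 e6u1 e6c2 rfl
theorem e6u3 : ∀ i, i < 14732 → fe6 i = true := below_step fe6 11049 3683 14732 e6u2 e6c3 rfl
theorem e6u4 : ∀ i, i < 18415 → fe6 i = true := below_step fe6 14732 3683 18415 e6u3 e6c4 rfl
theorem e6u5 : ∀ i, i < 22098 → fe6 i = true := below_step fe6 18415 3683 22098 e6u4 e6c5 rfl
theorem e6u6 : ∀ i, i < 25781 → fe6 i = true := below_step fe6 22098 3683 25781 e6u5 e6c6 rfl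
theorem e6u7 : ∀ i, i < 29464 → fe6 i = true := below_step fe6 25781 3683 29464 e6u6 e6c7 rfl
theorem e6u8 : ∀ i, i < 33147 → fe6 i = true := below_step fe6 29464 3683 33147 e6u7 e6c8 rfl
theorem e6u9 : ∀ i, i < 36830 → fe6 i = true := below_step fe6 33147 3683 36830 e6u8 e6c9 rfl
theorem e6u10 : ∀ i, i < 40513 → fe6 i = true := below_step fe6 36830 3683 40513 e6u9 e6c10 rfl
theorem e6u11 : ∀ i, i < 44196 → fe6 i = true := below_step fe6 40513 3683 44196 e6u10 e6c11 rfl
theorem e6u12 : ∀ i, i < 47879 → fe6 i = true := below_step fe6 44196 3683 47879 e6u11 e6c12 rfl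
theorem e6u13 : ∀ i, i < 51562 → fe6 i = true := below_step fe6 47879 3683 51562 e6u12 e6c13 rfl
theorem e6u14 : ∀ i, i < 55245 → fe6 i = true := below_step fe6 51562 3683 55245 e6u13 e6c14 rfl
theorem e6u15 : ∀ i, i < 58928 → fe6 i = true := below_step fe6 55245 3683 58928 e6u14 e6c15 rfl
theorem e6u16 : ∀ i, i < 62611 → fe6 i = true := below_step fe6 58928 3683 62611 e6u15 e6c16 rfl
theorem e6u17 : ∀ i, i < 66294 → fe6 i = true := below_step fe6 62611 3683 66294 e6u16 e6c17 rfl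
theorem e6u18 : ∀ i, i < 69977 → fe6 i = true := below_step fe6 66294 3683 69977 e6u17 e6c18 rfl
theorem e6u19 : ∀ i, i < 73660 → fe6 i = true := below_step fe6 69977 3683 73660 e6u18 e6c19 rfl
theorem e6u20 : ∀ i, i < 77343 → fe6 i = true := below_step fe6 73660 3683 77343 e6u19 e6c20 rfl
theorem e6u21 : ∀ i, i < 81026 → fe6 i = true := below_step fe6 77343 3683 81026 e6u20 e6c21 rfl
theorem e6u22 : ∀ i, i < 84709 → fe6 i = true := below_step fe6 81026 3683 84709 e6u21 e6c22 rfl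
theorem e6u23 : ∀ i, i < 88392 → fe6 i = true := below_step fe6 84709 3683 88392 e6u22 e6c23 rfl
theorem e6u24 : ∀ i, i < 92075 → fe6 i = true := below_step fe6 88392 3683 92075 e6u23 e6c24 rfl
theorem e6u25 : ∀ i, i < 95758 → fe6 i = true := below_step fe6 92075 3683 95758 e6u24 e6c25 rfl
theorem e6u26 : ∀ i, i < 99441 → fe6 i = true := below_step fe6 95758 3683 99441 e6u25 e6c26 rfl
theorem e6u27 : ∀ i, i < 103124 → fe6 i = true := below_step fe6 99441 3683 103124 e6u26 e6c27 rfl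
theorem e6u28 : ∀ i, i < 106807 → fe6 i = true := below_step fe6 103124 3683 106807 e6u27 e6c28 rfl
theorem e6u29 : ∀ i, i < 110490 → fe6 i = true := below_step fe6 106807 3683 110490 e6u28 e6c29 rfl
theorem e6u30 : ∀ i, i < 114173 → fe6 i = true := below_step fe6 110490 3683 114173 e6u29 e6c30 rfl
theorem e6u31 : ∀ i, i < 117856 → fe6 i = true := below_step fe6 114173 3683 117856 e6u30 e6c31 rfl
theorem e6u32 : ∀ i, i < 121539 → fe6 i = true := below_step fe6 117856 3683 121539 e6u31 e6c32 rfl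
theorem e6u33 : ∀ i, i < 122760 → fe6 i = true := below_step fe6 121539 1221 122760 e6u32 e6c33 rfl
theorem e7u0 : ∀ i, i < 3683 → fe7 i = true := below_step fe7 0 3683 3683 (below_zero fe7) e7c0 rfl
theorem e7u1 : ∀ i, i < 7366 → fe7 i = true := below_step fe7 3683 3683 7366 e7u0 e7c1 rfl
theorem e7u2 : ∀ i, i < 11049 → fe7 i = true := below_step fe7 7366 3683 11049 e7u1 e7c2 rfl
theorem e7u3 : ∀ i, i < 14732 → fe7 i = true := below_step fe7 11049 3683 14732 e7u2 e7c3 rfl
theorem e7u4 : ∀ i, i < 18415 → fe7 i = true := below_step fe7 14732 3683 18415 e7u3 e7c4 rfl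
theorem e7u5 : ∀ i, i < 22098 → fe7 i = true := below_step fe7 18415 3683 22098 e7u4 e7c5 rfl
theorem e7u6 : ∀ i, i < 25781 → fe7 i = true := below_step fe7 22098 3683 25781 e7u5 e7c6 rfl
theorem e7u7 : ∀ i, i < 29464 → fe7 i = true := below_step fe7 25781 3683 29464 e7u6 e7c7 rfl
theorem e7u8 : ∀ i, i < 33147 → fe7 i = true := below_step fe7 29464 3683 33147 e7u7 e7c8 rfl
theorem e7u9 : ∀ i, i < 36830 → fe7 i = true := below_step fe7 33147 3683 36830 e7u8 e7c9 rfl
theorem e7u10 : ∀ i, i < 40513 → fe7 i = true := below_step fe7 36830 3683 40513 e7u9 e7c10 rfl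
theorem e7u11 : ∀ i, i < 44196 → fe7 i = true := below_step fe7 40513 3683 44196 e7u10 e7c11 rfl
theorem e7u12 : ∀ i, i < 47879 → fe7 i = true := below_step fe7 44196 3683 47879 e7u11 e7c12 rfl
theorem e7u13 : ∀ i, i < 51562 → fe7 i = true := below_step fe7 47879 3683 51562 e7u12 e7c13 rfl
theorem e7u14 : ∀ i, i < 55245 → fe7 i = true := below_step fe7 51562 3683 55245 e7u13 e7c14 rfl
theorem e7u15 : ∀ i, i < 58928 → fe7 i = true := below_step fe7 55245 3683 58928 e7u14 e7c15 rfl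
theorem e7u16 : ∀ i, i < 62611 → fe7 i = true := below_step fe7 58928 3683 62611 e7u15 e7c16 rfl
theorem e7u17 : ∀ i, i < 66294 → fe7 i = true := below_step fe7 62611 3683 66294 e7u16 e7c17 rfl
theorem e7u18 : ∀ i, i < 69977 → fe7 i = true := below_step fe7 66294 3683 69977 e7u17 e7c18 rfl
theorem e7u19 : ∀ i, i < 73660 → fe7 i = true := below_step fe7 69977 3683 73660 e7u18 e7c19 rfl
theorem e7u20 : ∀ i, i < 77343 → fe7 i = true := below_step fe7 73660 3683 77343 e7u19 e7c20 rfl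
theorem e7u21 : ∀ i, i < 81026 → fe7 i = true := below_step fe7 77343 3683 81026 e7u20 e7c21 rfl
theorem e7u22 : ∀ i, i < 84709 → fe7 i = true := below_step fe7 81026 3683 84709 e7u21 e7c22 rfl
theorem e7u23 : ∀ i, i < 88392 → fe7 i = true := below_step fe7 84709 3683 88392 e7u22 e7c23 rfl
theorem e7u24 : ∀ i, i < 92075 → fe7 i = true := below_step fe7 88392 3683 92075 e7u23 e7c24 rfl
theorem e7u25 : ∀ i, i < 95758 → fe7 i = true := below_step fe7 92075 3683 95758 e7u24 e7c25 rfl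
theorem e7u26 : ∀ i, i < 99441 → fe7 i = true := below_step fe7 95758 3683 99441 e7u25 e7c26 rfl
theorem e7u27 : ∀ i, i < 103124 → fe7 i = true := below_step fe7 99441 3683 103124 e7u26 e7c27 rfl
theorem e7u28 : ∀ i, i < 106807 → fe7 i = true := below_step fe7 103124 3683 106807 e7u27 e7c28 rfl
theorem e7u29 : ∀ i, i < 110490 → fe7 i = true := below_step fe7 106807 3683 110490 e7u28 e7c29 rfl
theorem e7u30 : ∀ i, i < 114173 → fe7 i = true := below_step fe7 110490 3683 114173 e7u29 e7c30 rfl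
theorem e7u31 : ∀ i, i < 117856 → fe7 i = true := below_step fe7 114173 3683 117856 e7u30 e7c31 rfl
theorem e7u32 : ∀ i, i < 121539 → fe7 i = true := below_step fe7 117856 3683 121539 e7u31 e7c32 rfl
theorem e7u33 : ∀ i, i < 122760 → fe7 i = true := below_step fe7 121539 1221 122760 e7u32 e7c33 rfl
theorem hq0 (i : Nat) (hi : i < 122760) : q0 i = pwalk ON122760.permData.pt [0] i := Nat.eq_of_beq_eq_true (e0u33 i hi)
theorem hq1 (i : Nat) (hi : i < 122760) : q1 i = pwalk ON122760.permData.pt [1] i := Nat.eq_of_beq_eq_true (e1u33 i hi)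
theorem hq2 (i : Nat) (hi : i < 122760) : q2 i = pwalk ON122760.permData.pt [2] i := Nat.eq_of_beq_eq_true (e2u33 i hi)
theorem hq3 (i : Nat) (hi : i < 122760) : q3 i = pwalk ON122760.permData.pt [3] i := Nat.eq_of_beq_eq_true (e3u33 i hi)
theorem hq4 (i : Nat) (hi : i < 122760) : q4 i = pwalk ON122760.permData.pt [4] i := Nat.eq_of_beq_eq_true (e4u33 i hi)
theorem hq5 (i : Nat) (hi : i < 122760) : q5 i = pwalk ON122760.permData.pt [5] i := Nat.eq_of_beq_eq_true (e5u33 i hi)
theorem hq6 (i : Nat) (hi : i < 122760) : q6 i = pwalk ON122760.permData.pt [6] i := Nat.eq_of_beq_eq_true (e6u33 i hi)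
theorem hq7 (i : Nat) (hi : i < 122760) : q7 i = pwalk ON122760.permData.pt [7] i := Nat.eq_of_beq_eq_true (e7u33 i hi)
noncomputable def subTab : SubTab ON122760.permData [[0], [1], [2], [3], [4], [5], [6], [7]] where
  qt := qt
  hWC := by decide +kernel
  hq := by
    intro c hc
    have hc' : c < 8 := hc
    interval_cases c
    exacts [hq0, hq1, hq2, hq3, hq4, hq5, hq6, hq7]

end Cfsg.Agent.Lib.Helper35.ONFast
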